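import Groth.Agent.VerlindeLib.Twist

/-!
Partitions in a box versus strictly decreasing tuples.
-/

namespace Groth.Agent.VerlindeLib

open Finset Matrix Equiv ZMod Complex

variable {r k : ℕ}

lemma gap {M : ℕ} {u : Fin r → Fin M} (hu : StrictAnti u) :
    ∀ (n : ℕ) (i j : Fin r), (j : ℕ) = i + n → (u j : ℕ) + n ≤ u i := by
  intro n
  induction n with
  | zero => intro i j h; rw [show j = i from Fin.ext (by omega)]; omega
  | succ n ih =>
    intro i j h
    have hj := j.isLt
    have h1 := ih ⟨i + 1, by omega⟩ j (by simp; omega)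
    have h2 : (u ⟨i + 1, by omega⟩ : ℕ) < u i := by
      have := hu (show i < ⟨i + 1, by omega⟩ by rw [Fin.lt_def]; simp)
      exact this
    omega

lemma stair_le {M : ℕ} {u : Fin r → Fin M} (hu : StrictAnti u) (i : Fin r) :
    r - 1 - (i : ℕ) ≤ (u i : ℕ) ∧ (u i : ℕ) + i < M := by
  have hi := i.isLt
  have h1 := gap hu (r - 1 - i) i ⟨r - 1, by omega⟩ (by simp; omega)
  have h2 := gap hu i ⟨0, by omega⟩ i (by simp)
  have h3 := (u ⟨0, by omega⟩).isLt
  omega

/-- add the staircase -/
def addStair (μ : Fin r → Fin (k + 1)) : Fin r → Fin (r + k) :=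
  fun i => ⟨(μ i : ℕ) + (r - 1 - (i : ℕ)), by have := (μ i).isLt; have := i.isLt; omega⟩

@[simp] lemma addStair_val (μ : Fin r → Fin (k + 1)) (i : Fin r) :
    (addStair μ i : ℕ) = (μ i : ℕ) + (r - 1 - (i : ℕ)) := rfl

lemma addStair_strictAnti {μ : Fin r → Fin (k + 1)} (hμ : Antitone μ) : StrictAnti (addStair μ) := by
  intro i j hij
  have h : (μ j : ℕ) ≤ μ i := hμ hij.le
  have hij' : (i : ℕ) < j := hij
  have := j.isLt
  rw [Fin.lt_def, addStair_val, addStair_val]
  omega

/-- remove the staircase -/
def subStair (u : Fin r → Fin (r + k)) : Fin r → Fin (k + 1) :=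
  fun i => ⟨min ((u i : ℕ) - (r - 1 - (i : ℕ))) k, by omega⟩

lemma addStair_subStair {u : Fin r → Fin (r + k)} (hu : StrictAnti u) :
    addStair (subStair u) = u := by
  funext i
  apply Fin.ext
  have := stair_le hu i
  have := i.isLt
  simp [subStair]
  omega

lemma subStair_addStair (μ : Fin r → Fin (k + 1)) : subStair (addStair μ) = μ := by
  funext i
  apply Fin.ext
  have := (μ i).isLt
  simp [subStair]
  omega

lemma subStair_antitone {u : Fin r → Fin (r + k)} (hu : StrictAnti u) : Antitone (subStair u) := by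
  intro i j hij
  have hij' : (i : ℕ) ≤ j := hij
  have h1 := gap hu (j - i) i j (by omega)
  have := stair_le hu i
  have := stair_le hu j
  have := j.isLt
  rw [Fin.le_def]
  simp [subStair]
  omega

/-- summation over partitions in a box with last part zero as summation over `pts`. -/
lemma sum_box (g : (Fin r → Fin (r + k)) → ℂ) :
    ∑ μ ∈ (Finset.univ : Finset (Fin r → Fin (k + 1))).filter
        (fun μ : Fin r → Fin (k + 1) => Antitone μ ∧ ∀ i : Fin r, (i : ℕ) = r - 1 → (μ i : ℕ) = 0),
      g (addStair μ) = ∑ u ∈ pts r (r + k), g u := by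
  refine Finset.sum_bij' (fun μ _ => addStair μ) (fun u _ => subStair u) ?_ ?_ ?_ ?_
    (fun μ _ => rfl)
  · intro μ hμ
    simp only [pts, Finset.mem_filter, Finset.mem_univ, true_and] at hμ ⊢
    exact ⟨addStair_strictAnti hμ.1, fun i hi => by simp [hμ.2 i hi, hi]⟩
  · intro u hu
    simp only [pts, Finset.mem_filter, Finset.mem_univ, true_and] at hu ⊢
    exact ⟨subStair_antitone hu.1, fun i hi => by simp [subStair, hu.2 i hi]⟩
  · intro μ _; exact subStair_addStair μ
  · intro u hu
    simp only [pts, Finset.mem_filter, Finset.mem_univ, true_and] at hu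
    exact addStair_subStair hu.1

/-- a partition in the smaller box, shifted by one -/
def upOne (μ : Fin r → Fin k) : Fin r → Fin (r + k) := addStair (fun i => (μ i).succ)

lemma upOne_val (μ : Fin r → Fin k) (i : Fin r) :
    (upOne μ i : ℕ) = (μ i : ℕ) + 1 + (r - 1 - (i : ℕ)) := rfl

/-- summation over partitions in the smaller box. -/
lemma sum_small_box (hr : 1 ≤ r) (g : (Fin r → Fin (r + k)) → ℂ) :
    ∑ μ ∈ (Finset.univ : Finset (Fin r → Fin k)).filter (fun μ : Fin r → Fin k => Antitone μ),
      g (upOne μ) =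
      (∑ u ∈ (Finset.univ : Finset (Fin r → Fin (r + k))).filter (fun u => StrictAnti u), g u) -
        ∑ u ∈ pts r (r + k), g u := by
  classical
  rw [eq_sub_iff_add_eq, ← Finset.sum_filter_add_sum_filter_not
    ((Finset.univ : Finset (Fin r → Fin (r + k))).filter (fun u => StrictAnti u))
    (fun u => ∀ i : Fin r, (i : ℕ) = r - 1 → (u i : ℕ) = 0), add_comm, Finset.filter_filter,
    Finset.filter_filter]
  congr 1
  refine Finset.sum_bij (fun μ _ => upOne μ) ?_ ?_ ?_ (fun μ _ => rfl)
  · intro μ hμ
    simp only [Finset.mem_filter, Finset.mem_univ, true_and] at hμ ⊢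
    refine ⟨addStair_strictAnti fun i j hij => Fin.succ_le_succ_iff.mpr (hμ hij), fun h => ?_⟩
    have := h ⟨r - 1, by omega⟩ rfl
    simp [upOne_val] at this
  · intro μ _ ν _ h
    funext i
    apply Fin.ext
    have := congrArg (fun w => (w i : ℕ)) h
    simp only [upOne_val] at this
    omega
  · intro u hu
    simp only [Finset.mem_filter, Finset.mem_univ, true_and] at hu
    obtain ⟨hu, hlast⟩ := hu
    have hpos : ∀ i, 1 ≤ (subStair u i : ℕ) := by
      intro i
      have hi := i.isLt
      have h1 : (u ⟨r - 1, by omega⟩ : ℕ) ≠ 0 := fun h0 => hlast fun j hj => by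
        rw [show j = ⟨r - 1, by omega⟩ from Fin.ext hj, h0]
      have h2 := gap hu (r - 1 - i) i ⟨r - 1, by omega⟩ (by simp; omega)
      have h3 := stair_le hu i
      have h4 : 1 ≤ k := by
        have := stair_le hu ⟨r - 1, by omega⟩
        simp at this
        omega
      simp [subStair]
      omega
    let μ : Fin r → Fin k := fun i => ⟨(subStair u i : ℕ) - 1, by
      have := hpos i; have := (subStair u i).isLt; omega⟩
    refine ⟨μ, ?_, ?_⟩
    · simp only [Finset.mem_filter, Finset.mem_univ, true_and]
      intro i j hij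
      have : (subStair u j : ℕ) ≤ subStair u i := subStair_antitone hu hij
      rw [Fin.le_def]
      simp [μ]
      omega
    · funext i
      have h := congrArg (fun w => (w i : ℕ)) (addStair_subStair hu)
      simp only [addStair_val] at h
      apply Fin.ext
      simp only [upOne_val, μ]
      have := hpos i
      omega

/-- `exp (2πi m / (r + k))` as a standard character value. -/
lemma exp_eq_stdAddChar [NeZero (r + k)] (m : ℕ) :
    Complex.exp (2 * Real.pi * Complex.I * (m : ℂ) / ((r : ℂ) + k)) =
      stdAddChar (m : ZMod (r + k)) := by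
  rw [← Int.cast_natCast (R := ZMod (r + k)), stdAddChar_coe]
  congr 1
  push_cast
  rfl

end Groth.Agent.VerlindeLib
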