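import Mathlib

/-!
Alternants `det (ψ (x i * v j))` over `ZMod N`, their orthogonality relations, and translation
averaging, for the genus-zero Verlinde identities.
-/

namespace Groth.Agent.VerlindeLib

open Finset Matrix Equiv ZMod

variable {N : ℕ} [NeZero N] {r : ℕ}

/-- the alternant `det (ψ (x_i v_j))` -/
noncomputable def alt (x v : Fin r → ZMod N) : ℂ :=
  (Matrix.of fun i j => stdAddChar (x i * v j)).det

lemma stdAddChar_sum {ι : Type*} (s : Finset ι) (g : ι → ZMod N) :
    stdAddChar (∑ i ∈ s, g i) = ∏ i ∈ s, stdAddChar (g i) := by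
  induction s using Finset.cons_induction with
  | empty => simp
  | cons a s ha ih => rw [Finset.sum_cons, Finset.prod_cons, AddChar.map_add_eq_mul, ih]

lemma alt_comm (x v : Fin r → ZMod N) : alt x v = alt v x := by
  rw [alt, alt, ← det_transpose]
  congr 1
  ext i j
  simp [mul_comm]

lemma alt_perm_left (σ : Perm (Fin r)) (x v : Fin r → ZMod N) :
    alt (x ∘ σ) v = Perm.sign σ * alt x v :=
  det_permute σ (Matrix.of fun i j => stdAddChar (x i * v j))

lemma alt_perm_right (σ : Perm (Fin r)) (x v : Fin r → ZMod N) :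
    alt x (v ∘ σ) = Perm.sign σ * alt x v :=
  det_permute' σ (Matrix.of fun i j => stdAddChar (x i * v j))

lemma alt_add_right (x v : Fin r → ZMod N) (t : ZMod N) :
    alt x (fun j => v j + t) = stdAddChar (t * ∑ i, x i) * alt x v := by
  rw [alt, alt, Finset.mul_sum, stdAddChar_sum, ← det_mul_column]
  congr 1
  ext i j
  simp only [of_apply]
  rw [← AddChar.map_add_eq_mul]
  congr 1
  ring

lemma alt_add_left (x v : Fin r → ZMod N) (t : ZMod N) :
    alt (fun i => x i + t) v = stdAddChar (t * ∑ j, v j) * alt x v := by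
  rw [alt_comm, alt_add_right, alt_comm]

lemma alt_eq_zero (x v : Fin r → ZMod N) (hv : ¬ Function.Injective v) : alt x v = 0 := by
  simp only [Function.Injective, not_forall] at hv
  obtain ⟨i, j, h, hne⟩ := hv
  exact det_zero_of_column_eq hne fun k => by simp [h]

/-- the pairing `alt x v * alt (-y) v` -/
noncomputable def pair (x y v : Fin r → ZMod N) : ℂ :=
  alt x v * alt (fun i => -y i) v

lemma pair_perm (σ : Perm (Fin r)) (x y v : Fin r → ZMod N) :
    pair x y (v ∘ σ) = pair x y v := by
  rw [pair, pair, alt_perm_right, alt_perm_right]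
  rcases Int.units_eq_one_or (Perm.sign σ) with h | h <;> simp [h]

lemma pair_eq_zero (x y v : Fin r → ZMod N) (hv : ¬ Function.Injective v) : pair x y v = 0 := by
  rw [pair, alt_eq_zero x v hv, zero_mul]

lemma pair_add (x y v : Fin r → ZMod N) (t : ZMod N) :
    pair x y (fun j => v j + t) = stdAddChar (t * (∑ i, x i - ∑ i, y i)) * pair x y v := by
  rw [pair, pair, alt_add_right, alt_add_right, mul_sub, sub_eq_add_neg, AddChar.map_add_eq_mul,
    Finset.sum_neg_distrib, mul_neg]
  ring

lemma pair_shift (x y v : Fin r → ZMod N) (c : ZMod N) :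
    pair x (fun i => y i + c) v = stdAddChar (-(c * ∑ j, v j)) * pair x y v := by
  have : alt (fun i => -(y i + c)) v = alt (fun i => -y i + -c) v := by
    congr 1; ext i; ring
  rw [pair, pair, this, alt_add_left, neg_mul]
  ring

/-- Gram matrix of two exponent vectors -/
noncomputable def gram (x y : Fin r → ZMod N) : Matrix (Fin r) (Fin r) ℂ :=
  Matrix.of fun i l => if x i = y l then (N : ℂ) else 0

lemma sum_pair (x y : Fin r → ZMod N) :
    ∑ v, pair x y v = (r.factorial : ℂ) * (gram x y).det := by
  have e1 : ∀ v : Fin r → ZMod N, pair x y v = ∑ σ : Perm (Fin r), ∑ τ : Perm (Fin r),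
      (Perm.sign σ : ℂ) * (Perm.sign τ : ℂ) *
        ∏ j, stdAddChar (v j * (x (σ j) - y (τ j))) := by
    intro v
    rw [pair, alt, alt, det_apply', det_apply', Finset.sum_mul_sum]
    refine Finset.sum_congr rfl fun σ _ => Finset.sum_congr rfl fun τ _ => ?_
    simp only [of_apply]
    rw [mul_mul_mul_comm, ← Finset.prod_mul_distrib]
    congr 1
    refine Finset.prod_congr rfl fun j _ => ?_
    rw [← AddChar.map_add_eq_mul]
    congr 1
    ring
  simp_rw [e1]
  rw [Finset.sum_comm]
  have e2 : ∀ σ τ : Perm (Fin r),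
      ∑ v : Fin r → ZMod N, ∏ j, stdAddChar (v j * (x (σ j) - y (τ j))) =
        ∏ j, gram x y (σ j) (τ j) := by
    intro σ τ
    rw [← Fintype.prod_sum (fun (j : Fin r) (t : ZMod N) => stdAddChar (t * (x (σ j) - y (τ j))))]
    refine Finset.prod_congr rfl fun j _ => ?_
    rw [AddChar.sum_mulShift _ (isPrimitive_stdAddChar N), ZMod.card, gram, of_apply]
    simp only [sub_eq_zero]
    split_ifs <;> simp
  have e3 : ∀ σ : Perm (Fin r), ∑ τ : Perm (Fin r),
      (Perm.sign σ : ℂ) * (Perm.sign τ : ℂ) * ∏ j, gram x y (σ j) (τ j) = (gram x y).det := by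
    intro σ
    rw [← det_transpose, det_apply']
    refine Fintype.sum_equiv (Equiv.mulRight σ⁻¹) _ _ fun τ => ?_
    simp only [Equiv.coe_mulRight, map_mul, Perm.sign_inv, Units.val_mul, Int.cast_mul,
      transpose_apply]
    rw [mul_comm (Perm.sign σ : ℂ)]
    congr 1
    exact Fintype.prod_equiv σ _ _ fun j => by simp
  calc ∑ σ : Perm (Fin r), ∑ v : Fin r → ZMod N, ∑ τ : Perm (Fin r), _
      = ∑ σ : Perm (Fin r), (gram x y).det := by
        refine Finset.sum_congr rfl fun σ _ => ?_
        rw [Finset.sum_comm, ← e3 σ]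
        refine Finset.sum_congr rfl fun τ _ => ?_
        rw [← Finset.mul_sum, e2]
    _ = _ := by simp [Fintype.card_perm]

lemma gram_self_det {x : Fin r → ZMod N} (hx : Function.Injective x) :
    (gram x x).det = (N : ℂ) ^ r := by
  have : gram x x = Matrix.diagonal fun _ => (N : ℂ) := by
    ext i l
    by_cases h : i = l <;> simp [gram, h, hx.eq_iff]
  rw [this, det_diagonal, Finset.prod_const, Finset.card_univ, Fintype.card_fin]

lemma gram_det_eq_zero {x y : Fin r → ZMod N} (h : ∀ σ : Perm (Fin r), ∃ i, x (σ i) ≠ y i) :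
    (gram x y).det = 0 := by
  rw [det_apply']
  refine Finset.sum_eq_zero fun σ _ => ?_
  obtain ⟨i, hi⟩ := h σ
  rw [Finset.prod_eq_zero (Finset.mem_univ i) (by simp [gram, hi]), mul_zero]

/-- summing over the tuples with `j`-th entry `0`, a translation invariant function gives `1/N` of
the total. -/
lemma sum_at_zero (f : (Fin r → ZMod N) → ℂ) (hf : ∀ v t, f (fun j => v j + t) = f v)
    (j : Fin r) : (N : ℂ) * (∑ v, if v j = 0 then f v else 0) = ∑ v, f v := by
  have e : ∀ t : ZMod N, (∑ v, if v j = 0 then f v else 0) = ∑ v, if v j = t then f v else 0 := by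
    intro t
    refine Fintype.sum_equiv (Equiv.addRight fun _ => t) _ _ fun v => ?_
    have : (Equiv.addRight (fun _ : Fin r => t)) v = fun i => v i + t := rfl
    rw [this, hf]
    simp
  calc (N : ℂ) * (∑ v, if v j = 0 then f v else 0)
      = ∑ _t : ZMod N, ∑ v, if v j = 0 then f v else 0 := by simp
    _ = ∑ t : ZMod N, ∑ v, if v j = t then f v else 0 := Finset.sum_congr rfl fun t _ => e t
    _ = ∑ v, f v := by rw [Finset.sum_comm]; simp

/-- the tuple in `ZMod N` of a tuple in `Fin N` -/
def toZ (v : Fin r → Fin N) : Fin r → ZMod N := fun j => ((v j : ℕ) : ZMod N)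

lemma toZ_val (v : Fin r → Fin N) (j : Fin r) : (toZ v j).val = (v j : ℕ) :=
  ZMod.val_natCast_of_lt (v j).isLt

lemma toZ_injective {v : Fin r → Fin N} (hv : Function.Injective v) :
    Function.Injective (toZ v) := fun i j h => hv (Fin.ext (by
  rw [← toZ_val v i, ← toZ_val v j, h]))

/-- a symmetric function supported on injective tuples, summed over all tuples -/
lemma sum_eq_factorial_mul (f : (Fin r → ZMod N) → ℂ)
    (hsymm : ∀ (σ : Perm (Fin r)) v, f (v ∘ σ) = f v)
    (h0 : ∀ v, ¬ Function.Injective v → f v = 0) :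
    ∑ v, f v = (r.factorial : ℂ) *
      ∑ u ∈ (Finset.univ : Finset (Fin r → Fin N)).filter (fun u => StrictAnti u), f (toZ u) := by
  classical
  set I := (Finset.univ : Finset (Fin r → Fin N)).filter (fun u => StrictAnti u)
  have e : ∑ p ∈ I ×ˢ (Finset.univ : Finset (Perm (Fin r))), f (toZ p.1 ∘ p.2) =
      ∑ v ∈ (Finset.univ : Finset (Fin r → ZMod N)).filter Function.Injective, f v := by
    refine Finset.sum_bij (fun p _ => toZ p.1 ∘ p.2) ?_ ?_ ?_ (fun p _ => rfl)
    · intro p hp
      simp only [I, Finset.mem_product, Finset.mem_filter, Finset.mem_univ, true_and, and_true]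
        at hp ⊢
      exact (toZ_injective hp.injective).comp p.2.injective
    · intro p hp q hq h
      simp only [I, Finset.mem_product, Finset.mem_filter, Finset.mem_univ, true_and, and_true]
        at hp hq
      have hu : p.1 ∘ p.2 = q.1 ∘ q.2 := by
        funext j
        apply Fin.ext
        have := congrArg (fun w => (w j).val) h
        simpa [toZ_val] using this
      have hrange : Set.range p.1 = Set.range q.1 := by
        have := congrArg Set.range hu
        rwa [p.2.surjective.range_comp, q.2.surjective.range_comp] at this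
      have h1 : p.1 = q.1 := by
        have hp' : StrictMono (p.1 ∘ Fin.rev) := fun a b hab => hp (Fin.rev_lt_rev.mpr hab)
        have hq' : StrictMono (q.1 ∘ Fin.rev) := fun a b hab => hq (Fin.rev_lt_rev.mpr hab)
        have : p.1 ∘ Fin.rev = q.1 ∘ Fin.rev := by
          apply (hp'.range_inj hq').mp
          rw [Fin.rev_surjective.range_comp, Fin.rev_surjective.range_comp, hrange]
        funext j
        simpa using congrFun this j.rev
      refine Prod.ext h1 (Equiv.ext fun j => ?_)
      have := congrFun hu j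
      simp only [Function.comp_apply, ← h1] at this
      exact hp.injective this
    · intro v hv
      simp only [Finset.mem_filter, Finset.mem_univ, true_and] at hv
      let g : Fin r → Fin N := fun j => ⟨(v j).val, ZMod.val_lt _⟩
      have hg : Function.Injective g := fun i j h => hv (ZMod.val_injective N (congrArg Fin.val h))
      let σ : Perm (Fin r) := Fin.revPerm.trans (Tuple.sort g)
      have hanti : StrictAnti (g ∘ σ) := by
        intro a b hab
        have hm := (Tuple.monotone_sort g).strictMono_of_injective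
          (hg.comp (Tuple.sort g).injective) (Fin.rev_lt_rev.mpr hab)
        simpa [σ, Fin.revPerm] using hm
      refine ⟨(g ∘ σ, σ⁻¹), by simp [I, hanti], ?_⟩
      funext j
      simp [toZ, g]
  rw [← Finset.sum_filter_of_ne (p := Function.Injective) (f := f)
    (fun v _ hne => by_contra fun h => hne (h0 v h)), ← e, Finset.sum_product]
  rw [Finset.mul_sum]
  refine Finset.sum_congr rfl fun u _ => ?_
  simp [hsymm, Fintype.card_perm]

/-- the index set of sorted tuples containing `0` -/
def pts (r N : ℕ) : Finset (Fin r → Fin N) :=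
  (Finset.univ : Finset (Fin r → Fin N)).filter
    (fun v => StrictAnti v ∧ ∀ i : Fin r, (i : ℕ) = r - 1 → (v i : ℕ) = 0)

/-- sum over sorted tuples containing zero, as sum over all tuples starting at one zero -/
lemma sum_pts (hr : 1 ≤ r) (f : (Fin r → ZMod N) → ℂ)
    (hsymm : ∀ (σ : Perm (Fin r)) v, f (v ∘ σ) = f v)
    (h0 : ∀ v, ¬ Function.Injective v → f v = 0) :
    (r.factorial : ℂ) * ∑ u ∈ pts r N, f (toZ u) =
      ∑ j, ∑ v, if v j = 0 then f v else 0 := by
  rw [Finset.sum_comm, sum_eq_factorial_mul (fun v => ∑ j, if v j = 0 then f v else 0)]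
  · congr 1
    rw [pts, ← Finset.filter_filter, Finset.sum_filter]
    refine Finset.sum_congr rfl fun u hu => ?_
    simp only [Finset.mem_filter, Finset.mem_univ, true_and] at hu
    let last : Fin r := ⟨r - 1, by omega⟩
    have hz : ∀ j, toZ u j = 0 ↔ (u j : ℕ) = 0 := fun j => by
      rw [← ZMod.val_eq_zero, toZ_val]
    have huniq : ∀ j, (u j : ℕ) = 0 → j = last := by
      intro j hj
      by_contra hne
      have hlt : j < last := by
        refine lt_of_le_of_ne ?_ hne
        show (j : ℕ) ≤ r - 1
        omega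
      have := hu hlt
      rw [Fin.lt_def, hj] at this
      exact Nat.not_lt_zero _ this
    have hiff : (∀ i : Fin r, (i : ℕ) = r - 1 → (u i : ℕ) = 0) ↔ (u last : ℕ) = 0 :=
      ⟨fun h => h last rfl, fun h i hi => by
        have : i = last := Fin.ext hi
        rw [this, h]⟩
    rw [Finset.sum_eq_single last]
    · simp only [hiff, hz]
    · intro j _ hj
      rw [if_neg]
      rw [hz]
      exact fun h => hj (huniq j h)
    · simp
  · intro σ v
    rw [← Equiv.sum_comp σ (fun j => if v j = 0 then f v else 0)]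
    refine Finset.sum_congr rfl fun j _ => ?_
    rw [hsymm]
    rfl
  · intro v hv
    simp [h0 v hv]

/-- translation invariant case -/
lemma sum_pts_invariant (hr : 1 ≤ r) (f : (Fin r → ZMod N) → ℂ)
    (hsymm : ∀ (σ : Perm (Fin r)) v, f (v ∘ σ) = f v)
    (h0 : ∀ v, ¬ Function.Injective v → f v = 0)
    (hf : ∀ v t, f (fun j => v j + t) = f v) :
    (N : ℂ) * ((r.factorial : ℂ) * ∑ u ∈ pts r N, f (toZ u)) = (r : ℂ) * ∑ v, f v := by
  rw [sum_pts hr f hsymm h0, Finset.mul_sum]
  simp [sum_at_zero f hf]

lemma sum_pts_pair (hr : 1 ≤ r) {x y : Fin r → ZMod N} (hxy : ∑ i, x i = ∑ i, y i) :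
    (N : ℂ) * ∑ u ∈ pts r N, pair x y (toZ u) = (r : ℂ) * (gram x y).det := by
  have h := sum_pts_invariant hr (pair x y) (fun σ v => pair_perm σ x y v)
    (pair_eq_zero x y) (fun v t => by simp [pair_add, hxy])
  rw [sum_pair] at h
  have hne : (r.factorial : ℂ) ≠ 0 := by exact_mod_cast r.factorial_pos.ne'
  apply mul_left_cancel₀ hne
  linear_combination h

end Groth.Agent.VerlindeLib
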