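import Groth.Agent.VerlindeLib.Basic

/-!
Twisted orthogonality of alternants over sorted tuples containing zero, and the Vandermonde
expression of the product of squared sines.
-/

namespace Groth.Agent.VerlindeLib

open Finset Matrix Equiv ZMod Complex

variable {N : ℕ} [NeZero N] {r : ℕ}

/-- `exp (-2πi d m / (r N))` -/
noncomputable def tw (N r : ℕ) (d m : ℤ) : ℂ :=
  Complex.exp (-(2 * Real.pi * Complex.I * (d : ℂ) * (m : ℂ) / ((r : ℂ) * (N : ℂ))))

lemma tw_add (d a b : ℤ) : tw N r d (a + b) = tw N r d a * tw N r d b := by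
  rw [tw, tw, tw, ← Complex.exp_add]
  congr 1
  push_cast
  ring

/-- sum of the standard representatives -/
def size (v : Fin r → ZMod N) : ℤ := ∑ j, ((v j).val : ℤ)

/-- number of entries with representative below that of `t` -/
def cnt (v : Fin r → ZMod N) (t : ZMod N) : ℕ :=
  (Finset.univ.filter fun l => (v l).val < t.val).card

lemma val_sub_int (a t : ZMod N) :
    ((a - t).val : ℤ) = (a.val : ℤ) - t.val + if a.val < t.val then (N : ℤ) else 0 := by
  split_ifs with h
  · have ha := a.val_lt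
    have ht := t.val_lt
    have e : a - t = ((a.val + N - t.val : ℕ) : ZMod N) := by
      rw [Nat.cast_sub (by omega), Nat.cast_add, ZMod.natCast_zmod_val, ZMod.natCast_zmod_val,
        ZMod.natCast_self, add_zero]
    rw [e, ZMod.val_natCast_of_lt (by omega)]
    omega
  · rw [ZMod.val_sub (not_lt.mp h), add_zero, Nat.cast_sub (not_lt.mp h)]

lemma size_sub (v : Fin r → ZMod N) (t : ZMod N) :
    size (fun j => v j - t) = size v + -((r : ℤ) * t.val) + (N : ℤ) * cnt v t := by
  simp only [size, val_sub_int, Finset.sum_add_distrib, Finset.sum_sub_distrib, cnt]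
  rw [← Finset.sum_filter]
  simp
  ring

lemma tw_neg_mul (hr : r ≠ 0) (d : ℤ) (t : ℕ) :
    tw N r d (-((r : ℤ) * t)) = stdAddChar ((t : ZMod N) * (d : ZMod N)) := by
  rw [show (t : ZMod N) * (d : ZMod N) = (((t : ℤ) * d : ℤ) : ZMod N) by push_cast; rfl,
    stdAddChar_coe, tw]
  congr 1
  have : (r : ℂ) ≠ 0 := by exact_mod_cast hr
  push_cast
  field_simp

lemma tw_mul_nat (d : ℤ) (c : ℕ) :
    tw N r d ((N : ℤ) * c) = Complex.exp (-(2 * Real.pi * Complex.I * (d : ℂ) / (r : ℂ))) ^ c := by
  rw [tw, ← Complex.exp_nat_mul]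
  congr 1
  have : (N : ℂ) ≠ 0 := by exact_mod_cast NeZero.ne N
  push_cast
  field_simp

/-- the representative-dependent twist of a pairing -/
noncomputable def twPair (x y : Fin r → ℤ) (v : Fin r → ZMod N) : ℂ :=
  tw N r (∑ i, x i - ∑ i, y i) (size v) *
    pair (fun i => (x i : ZMod N)) (fun i => (y i : ZMod N)) v

lemma twPair_perm (x y : Fin r → ℤ) (σ : Perm (Fin r)) (v : Fin r → ZMod N) :
    twPair x y (v ∘ σ) = twPair x y v := by
  rw [twPair, twPair, pair_perm]
  congr 2
  exact Equiv.sum_comp σ fun j => ((v j).val : ℤ)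

lemma twPair_sub (hr : r ≠ 0) (x y : Fin r → ℤ) (v : Fin r → ZMod N) (t : ZMod N) :
    twPair x y (fun j => v j - t) =
      Complex.exp (-(2 * Real.pi * Complex.I * ((∑ i, x i - ∑ i, y i : ℤ) : ℂ) / (r : ℂ))) ^ cnt v t
        * twPair x y v := by
  rw [twPair, twPair, size_sub, tw_add, tw_add, tw_neg_mul hr, tw_mul_nat, ZMod.natCast_zmod_val]
  have : (fun j => v j - t) = fun j => v j + -t := funext fun j => sub_eq_add_neg _ _
  rw [this, pair_add]
  set D : ℤ := ∑ i, x i - ∑ i, y i
  have hD : (∑ i, (x i : ZMod N) - ∑ i, (y i : ZMod N)) = (D : ZMod N) := by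
    simp [D]
  rw [hD]
  have h1 : stdAddChar (t * (D : ZMod N)) * stdAddChar (-t * (D : ZMod N)) = 1 := by
    rw [← AddChar.map_add_eq_mul]
    simp
  linear_combination (tw N r D (size v) *
    Complex.exp (-(2 * Real.pi * Complex.I * (D : ℂ) / (r : ℂ))) ^ cnt v t *
    pair (fun i => (x i : ZMod N)) (fun i => (y i : ZMod N)) v) * h1

lemma sum_pow_cnt {v : Fin r → ZMod N} (hv : Function.Injective v) {ω : ℂ} (hω : ω ≠ 1)
    (hωr : ω ^ r = 1) : ∑ j, ω ^ cnt v (v j) = 0 := by
  have hlt : ∀ j, cnt v (v j) < r := by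
    intro j
    calc cnt v (v j) < (Finset.univ : Finset (Fin r)).card :=
          Finset.card_lt_card ((Finset.filter_ssubset).mpr ⟨j, Finset.mem_univ _, by simp⟩)
      _ = r := by simp
  let g : Fin r → Fin r := fun j => ⟨cnt v (v j), hlt j⟩
  have hmono : ∀ i j, (v i).val < (v j).val → cnt v (v i) < cnt v (v j) := by
    intro i j h
    refine Finset.card_lt_card ?_
    rw [Finset.ssubset_iff_of_subset
      (fun l hl => by simp only [Finset.mem_filter] at hl ⊢; exact ⟨hl.1, hl.2.trans h⟩)]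
    exact ⟨i, by simp [h], by simp⟩
  have hg : Function.Injective g := by
    intro i j h
    have h' : cnt v (v i) = cnt v (v j) := congrArg Fin.val h
    rcases lt_trichotomy (v i).val (v j).val with h1 | h1 | h1
    · exact absurd h' (hmono i j h1).ne
    · exact hv (ZMod.val_injective N h1)
    · exact absurd h'.symm (hmono j i h1).ne
  rw [Fintype.sum_bijective g ((Finite.injective_iff_bijective).mp hg) _
    (fun m => ω ^ (m : ℕ)) fun j => rfl, Fin.sum_univ_eq_sum_range (fun m => ω ^ m),
    geom_sum_eq hω, hωr]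
  simp

/-- twisted sum vanishes when `r` does not divide the degree. -/
lemma sum_pts_twPair_of_not_dvd (hr : 1 ≤ r) (x y : Fin r → ℤ)
    (hd : ¬ (r : ℤ) ∣ ∑ i, x i - ∑ i, y i) :
    ∑ u ∈ pts r N, twPair x y (toZ u) = 0 := by
  set ω : ℂ := Complex.exp (-(2 * Real.pi * Complex.I * ((∑ i, x i - ∑ i, y i : ℤ) : ℂ) / (r : ℂ)))
    with hωdef
  have hr0 : (r : ℂ) ≠ 0 := by exact_mod_cast (show r ≠ 0 by omega)
  have hω : ω ≠ 1 := by
    intro h
    rw [hωdef, Complex.exp_eq_one_iff] at h
    obtain ⟨n, hn⟩ := h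
    apply hd
    refine ⟨-n, ?_⟩
    have hpi : (2 * (Real.pi : ℂ) * Complex.I) ≠ 0 := Complex.two_pi_I_ne_zero
    have : ((∑ i, x i - ∑ i, y i : ℤ) : ℂ) = ((r * -n : ℤ) : ℂ) := by
      field_simp at hn
      push_cast at hn ⊢
      apply mul_left_cancel₀ hpi
      linear_combination -(2 * (Real.pi : ℂ) * Complex.I) * hn
    exact_mod_cast this
  have hωr : ω ^ r = 1 := by
    rw [hωdef, ← Complex.exp_nat_mul, Complex.exp_eq_one_iff]
    refine ⟨-(∑ i, x i - ∑ i, y i), ?_⟩
    field_simp
    push_cast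
    ring
  have h0 : ∀ v : Fin r → ZMod N, ¬ Function.Injective v → twPair x y v = 0 := fun v hv => by
    rw [twPair, pair_eq_zero _ _ _ hv, mul_zero]
  have key := sum_pts hr (twPair (N := N) x y) (twPair_perm x y) h0
  let j0 : Fin r := ⟨0, hr⟩
  have e : ∀ j, (∑ v : Fin r → ZMod N, if v j = 0 then twPair x y v else 0) =
      ∑ v : Fin r → ZMod N, if v j0 = 0 then ω ^ cnt v (v j) * twPair x y v else 0 := by
    intro j
    rw [← Finset.sum_filter, ← Finset.sum_filter]
    refine Finset.sum_bij' (fun w _ => fun i => w i - w j0) (fun v _ => fun i => v i - v j)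
      ?_ ?_ ?_ ?_ ?_
    · intro w hw; simp
    · intro v hv; simp
    · intro w hw
      simp only [Finset.mem_filter] at hw
      funext i
      simp [hw.2]
    · intro v hv
      simp only [Finset.mem_filter] at hv
      funext i
      simp [hv.2]
    · intro w hw
      simp only [Finset.mem_filter] at hw
      rw [← twPair_sub (by omega)]
      congr 1
      funext i
      simp [hw.2]
  simp only [e] at key
  rw [Finset.sum_comm] at key
  have hz : ∀ v : Fin r → ZMod N,
      (∑ j, if v j0 = 0 then ω ^ cnt v (v j) * twPair x y v else 0) = 0 := by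
    intro v
    by_cases hv : Function.Injective v
    · split_ifs
      · rw [← Finset.sum_mul, sum_pow_cnt hv hω hωr, zero_mul]
      · simp
    · simp [h0 v hv]
  rw [Finset.sum_congr rfl fun v _ => hz v, Finset.sum_const_zero] at key
  exact (mul_eq_zero.mp key).resolve_left (by exact_mod_cast r.factorial_pos.ne')

lemma window {x y : Fin r → ℤ} (hx : StrictAnti x) (hy : StrictAnti y)
    (hxw : ∀ i j, x i - x j < N) (hyw : ∀ i j, y i - y j < N) {c : ℤ}
    (hsum : ∑ i, x i - ∑ i, y i = (r : ℤ) * c) (σ : Perm (Fin r))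
    (h : ∀ i, (x (σ i) : ZMod N) = ((y i + c : ℤ) : ZMod N)) : ∀ i, x i - y i = c := by
  have hq : ∀ i, ∃ q : ℤ, x (σ i) - (y i + c) = (N : ℤ) * q := fun i => by
    have := (ZMod.intCast_eq_intCast_iff_dvd_sub _ _ N).mp (h i).symm
    exact this
  choose q hq using hq
  have hN : (0 : ℤ) < N := by exact_mod_cast NeZero.pos N
  have hs : ∑ i, q i = 0 := by
    have e : ∑ i, (N : ℤ) * q i = 0 := by
      simp only [← hq, Finset.sum_sub_distrib, Finset.sum_add_distrib, Equiv.sum_comp σ x]
      simp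
      linarith
    rw [← Finset.mul_sum] at e
    exact (mul_eq_zero.mp e).resolve_left hN.ne'
  have hle : ∀ i j, q i ≤ q j + 1 := by
    intro i j
    have h1 := hxw (σ i) (σ j)
    have h2 := hyw j i
    have h3 : (N : ℤ) * (q i - q j) < N * 2 := by rw [mul_sub, ← hq, ← hq]; linarith
    have := lt_of_mul_lt_mul_left h3 hN.le
    omega
  have h0 : ∀ i, q i = 0 := by
    intro i
    rcases lt_trichotomy (q i) 0 with h1 | h1 | h1
    · exfalso
      have : ∑ j, q j < ∑ _j : Fin r, (0 : ℤ) :=
        Finset.sum_lt_sum (fun j _ => by have := hle j i; omega) ⟨i, Finset.mem_univ _, h1⟩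
      simp [hs] at this
    · exact h1
    · exfalso
      have : ∑ _j : Fin r, (0 : ℤ) < ∑ j, q j :=
        Finset.sum_lt_sum (fun j _ => by have := hle i j; omega) ⟨i, Finset.mem_univ _, h1⟩
      simp [hs] at this
  have hmono : StrictMono σ := by
    intro i j hij
    apply hx.lt_iff_gt.mp
    have hi := hq i
    have hj := hq j
    rw [h0] at hi hj
    have := hy hij
    linarith
  have hid : ⇑σ = id := (hmono.range_inj strictMono_id).mp (by
    rw [σ.surjective.range_eq, Set.range_id])
  intro i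
  have := hq i
  rw [h0, hid] at this
  simp only [id] at this
  linarith

/-- **twisted orthogonality** of alternants over sorted tuples containing zero. -/
theorem sum_pts_twPair_eq_zero (hr : 1 ≤ r) (x y : Fin r → ℤ) (hx : StrictAnti x)
    (hy : StrictAnti y) (hxw : ∀ i j, x i - x j < N) (hyw : ∀ i j, y i - y j < N)
    (hne : ¬ ∃ a : ℤ, ∀ i, x i - y i = a) :
    ∑ u ∈ pts r N, twPair x y (toZ u) = 0 := by
  by_cases hd : (r : ℤ) ∣ ∑ i, x i - ∑ i, y i
  swap
  · exact sum_pts_twPair_of_not_dvd hr x y hd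
  obtain ⟨c, hc⟩ := hd
  have e : ∀ v : Fin r → ZMod N, twPair x y v =
      pair (fun i => (x i : ZMod N)) (fun i => (y i : ZMod N) + (c : ZMod N)) v := by
    intro v
    rw [twPair, pair_shift, hc]
    congr 1
    have hsz : ∑ j, v j = ((size v : ℤ) : ZMod N) := by simp [size]
    rw [hsz, ← Int.cast_mul, ← Int.cast_neg, stdAddChar_coe, tw]
    congr 1
    have : (r : ℂ) ≠ 0 := by exact_mod_cast (show r ≠ 0 by omega)
    push_cast
    field_simp
  simp only [e]
  have hxy : ∑ i, (x i : ZMod N) = ∑ i, ((y i : ZMod N) + (c : ZMod N)) := by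
    have : ∑ i, x i = ∑ i, (y i + c) := by
      simp [Finset.sum_add_distrib]
      linarith
    exact_mod_cast congrArg (fun m : ℤ => (m : ZMod N)) this
  have hg := gram_det_eq_zero (N := N) (x := fun i => (x i : ZMod N))
    (y := fun i => (y i : ZMod N) + (c : ZMod N)) (fun σ => by
      by_contra hcon
      simp only [not_exists, not_not] at hcon
      exact hne ⟨c, window hx hy hxw hyw hc σ fun i => by simpa using hcon i⟩)
  have h := sum_pts_pair hr hxy
  rw [hg, mul_zero] at h
  exact (mul_eq_zero.mp h).resolve_left (by exact_mod_cast NeZero.ne N)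

/-! ### Vandermonde -/

/-- the exponents `r - 1 - i` -/
def stair (r N : ℕ) : Fin r → ZMod N := fun i => ((r - 1 - (i : ℕ) : ℕ) : ZMod N)

lemma det_pow_eq_alt (n : Fin r → ℕ) (v : Fin r → ZMod N) (z : Fin r → ℂ)
    (hz : ∀ j, z j = stdAddChar (v j)) :
    (Matrix.of fun i j : Fin r => z j ^ n i).det = alt (fun i => (n i : ZMod N)) v := by
  rw [alt]
  congr 1
  ext i j
  simp [hz, ← AddChar.map_nsmul_eq_pow, nsmul_eq_mul]

lemma det_stair (z : Fin r → ℂ) :
    (Matrix.of fun i j : Fin r => z j ^ (r - 1 - (i : ℕ))).det =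
      Perm.sign (Fin.revPerm : Perm (Fin r)) * (vandermonde z).det := by
  rw [← det_transpose (vandermonde z), ← det_permute]
  congr 1
  ext i j
  simp [vandermonde_apply, Fin.val_rev]
  congr 1
  omega

lemma alt_stair_ne_zero {v : Fin r → ZMod N} (hv : Function.Injective v) :
    alt (stair r N) v ≠ 0 := by
  rw [show alt (stair r N) v =
      (Matrix.of fun i j : Fin r => stdAddChar (v j) ^ (r - 1 - (i : ℕ))).det from
    (det_pow_eq_alt (fun i => r - 1 - (i : ℕ)) v _ fun j => rfl).symm, det_stair]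
  refine mul_ne_zero ?_ (det_vandermonde_ne_zero_iff.mpr (injective_stdAddChar.comp hv))
  rcases Int.units_eq_one_or (Perm.sign (Fin.revPerm : Perm (Fin r))) with h | h <;> simp [h]

lemma alt_neg_stair (v : Fin r → ZMod N) :
    alt (fun i => -stair r N i) v = Perm.sign (Fin.revPerm : Perm (Fin r)) *
      (stdAddChar (-((r - 1 : ℕ) : ZMod N) * ∑ j, v j) * alt (stair r N) v) := by
  rw [← alt_add_left, ← alt_perm_left]
  congr 1
  funext i
  simp only [stair, Function.comp_apply, Fin.revPerm_apply, Fin.val_rev]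
  have hi := i.isLt
  rw [show r - 1 - (r - ((i : ℕ) + 1)) = (i : ℕ) by omega,
    show (r - 1 : ℕ) = (r - 1 - (i : ℕ)) + (i : ℕ) by omega]
  push_cast
  rw [Nat.add_sub_cancel]
  ring

lemma two_sin_sq (a b : ℂ) :
    (Complex.exp (a * I) - Complex.exp (b * I)) *
      (Complex.exp (-(a * I)) - Complex.exp (-(b * I))) = (2 * Complex.sin ((a - b) / 2)) ^ 2 := by
  have h1 : Complex.exp (a * I) * Complex.exp (-(a * I)) = 1 := by rw [← Complex.exp_add]; simp
  have h2 : Complex.exp (b * I) * Complex.exp (-(b * I)) = 1 := by rw [← Complex.exp_add]; simp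
  have h3 : 2 * Complex.cos (a - b) =
      Complex.exp (a * I) * Complex.exp (-(b * I)) + Complex.exp (b * I) * Complex.exp (-(a * I)) := by
    rw [Complex.two_cos, ← Complex.exp_add, ← Complex.exp_add]
    congr 1 <;> congr 1 <;> ring
  have h4 : Complex.cos (a - b) = 2 * Complex.cos ((a - b) / 2) ^ 2 - 1 := by
    rw [← Complex.cos_two_mul]; congr 1; ring
  have h5 := Complex.sin_sq_add_cos_sq ((a - b) / 2)
  linear_combination h1 + h2 + h3 - 2 * h4 - 4 * h5

/-- the product of squared sines as an alternant pairing -/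
theorem prod_sin_sq_eq (v : Fin r → ℕ) (M : ℝ) (hM : M = N) :
    ((∏ p ∈ (Finset.univ : Finset (Fin r × Fin r)).filter (fun p => p.1 < p.2),
        ((2 : ℝ) * Real.sin (Real.pi * ((v p.1 : ℝ) - (v p.2 : ℝ)) / M)) ^ 2 : ℝ) : ℂ) =
      pair (stair r N) (stair r N) (fun j => (v j : ZMod N)) := by
  subst hM
  have h1 : alt (stair r N) (fun j => (v j : ZMod N)) =
      Perm.sign (Fin.revPerm : Perm (Fin r)) *
        (vandermonde fun j => stdAddChar ((v j : ZMod N))).det := by
    rw [← det_stair]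
    exact (det_pow_eq_alt (fun i => r - 1 - (i : ℕ)) _ _ fun j => rfl).symm
  have h2 : alt (fun i => -stair r N i) (fun j => (v j : ZMod N)) =
      Perm.sign (Fin.revPerm : Perm (Fin r)) *
        (vandermonde fun j => stdAddChar (-(v j : ZMod N))).det := by
    rw [← det_stair, det_pow_eq_alt (fun i => r - 1 - (i : ℕ)) (fun j => -(v j : ZMod N)) _
      fun j => rfl, alt, alt]
    congr 1
    ext i j
    simp [stair]
  rw [pair, h1, h2, det_vandermonde, det_vandermonde, mul_mul_mul_comm]
  have hsign : (Perm.sign (Fin.revPerm : Perm (Fin r)) : ℂ) *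
      (Perm.sign (Fin.revPerm : Perm (Fin r)) : ℂ) = 1 := by
    rcases Int.units_eq_one_or (Perm.sign (Fin.revPerm : Perm (Fin r))) with h | h <;> simp [h]
  rw [hsign, one_mul, Complex.ofReal_prod, Finset.prod_filter, Fintype.prod_prod_type,
    ← Finset.prod_mul_distrib]
  refine Finset.prod_congr rfl fun i _ => ?_
  rw [← Finset.prod_filter, ← Finset.prod_mul_distrib]
  refine Finset.prod_congr (by ext j; simp) fun j _ => ?_
  have hN : (N : ℂ) ≠ 0 := by exact_mod_cast NeZero.ne N
  have ez : ∀ m : ℕ, (stdAddChar (m : ZMod N) : ℂ) =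
      Complex.exp (2 * Real.pi * (m : ℂ) / N * I) := fun m => by
    rw [← Int.cast_natCast, stdAddChar_coe]
    congr 1
    push_cast
    ring
  have ez' : ∀ m : ℕ, (stdAddChar (-(m : ZMod N)) : ℂ) =
      Complex.exp (-(2 * Real.pi * (m : ℂ) / N * I)) := fun m => by
    rw [← Int.cast_natCast, ← Int.cast_neg, stdAddChar_coe]
    congr 1
    push_cast
    ring
  rw [ez, ez, ez', ez', two_sin_sq]
  push_cast
  rw [show ((2 : ℂ) * Real.pi * (v j : ℂ) / N - 2 * Real.pi * (v i : ℂ) / N) / 2 =
    -((Real.pi : ℂ) * ((v i : ℂ) - (v j : ℂ)) / N) by ring, Complex.sin_neg]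
  ring

end Groth.Agent.VerlindeLib
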